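import Groth.Agent.DeltaFlat.Basic
import Groth.Agent.RedNorm.Nagata
import Groth.Agent.VarDim.Scheme
import Groth.Agent.S0566
import Groth.Agent.S4710

/-!
# δ does not drop along flat local maps; finite normalization of local rings of varieties
-/

set_option autoImplicit false
set_option linter.style.haveILetI false
set_option linter.unusedSectionVars false
set_option maxHeartbeats 800000

universe u

open scoped TensorProduct
open CategoryTheory AlgebraicGeometry

namespace Groth.Agent.BCPoint

/-- `δ(A) ≤ δ(B)` for flat local `A → B`. -/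
theorem deltaInv_le {A B : Type u} [CommRing A] [CommRing B] [Algebra A B] [IsLocalRing A] [IsLocalRing B]
    [IsLocalHom (algebraMap A B)] [IsReduced A] [IsNoetherianRing A] [Module.Flat A B]
    [Module.Finite A (DeltaFlat.Nrm A)] : Curv2.deltaInv A ≤ Curv2.deltaInv B := by
  let C := B ⊗[A] DeltaFlat.Nrm A
  let ι : DeltaFlat.Nrm A →ₐ[A] C := Algebra.TensorProduct.includeRight
  let iN : A →ₗ[A] DeltaFlat.Nrm A := Algebra.linearMap A (DeltaFlat.Nrm A)
  let p : C →ₗ[B] B ⊗[A] (DeltaFlat.Nrm A ⧸ LinearMap.range iN) :=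
    TensorProduct.AlgebraTensorModule.lTensor B B (LinearMap.range iN).mkQ
  have hp : Function.Surjective p := LinearMap.lTensor_surjective B (Submodule.mkQ_surjective _)
  have hker : LinearMap.ker p = LinearMap.range (Algebra.linearMap B C) := by
    have hex := lTensor_exact B (LinearMap.exact_map_mkQ_range iN) (Submodule.mkQ_surjective _)
    have key : ∀ b : B, ∀ a : A, (iN.lTensor B) (b ⊗ₜ[A] a) = algebraMap B C (a • b) := fun b a => by
      show b ⊗ₜ[A] algebraMap A (DeltaFlat.Nrm A) a = (a • b) ⊗ₜ[A] (1 : DeltaFlat.Nrm A)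
      rw [TensorProduct.smul_tmul, Algebra.algebraMap_eq_smul_one]
    ext x
    constructor
    · intro hx
      obtain ⟨y, rfl⟩ := (hex x).mp hx
      induction y using TensorProduct.induction_on with
      | zero => rw [map_zero]; exact Submodule.zero_mem _
      | tmul b a => exact ⟨a • b, (key b a).symm⟩
      | add u v hu hv =>
        rw [map_add]
        exact Submodule.add_mem _ (hu (by exact (hex _).mpr ⟨u, rfl⟩)) (hv (by exact (hex _).mpr ⟨v, rfl⟩))
    · rintro ⟨b, rfl⟩
      exact (hex _).mpr ⟨b ⊗ₜ[A] 1, by rw [key, one_smul]; rfl⟩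
  let φ : FractionRing A →+* FractionRing B :=
    IsLocalization.map (M := nonZeroDivisors A) (T := nonZeroDivisors B) (FractionRing B)
      (algebraMap A B) (fun a ha => DeltaFlat.map_mem_nonZeroDivisors ha)
  obtain ⟨θ, hθB, hθN⟩ := DeltaFlat.exists_lift (A := A) (algebraMap B (FractionRing B))
    (φ.comp (integralClosure A (FractionRing A)).val.toRingHom) (RingHom.ext fun a => by
      show algebraMap B (FractionRing B) (algebraMap A B a) = φ (algebraMap A (FractionRing A) a)
      exact (IsLocalization.map_eq _ a).symm)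
  let θ' : C →ₐ[B] FractionRing B := ⟨θ, fun b => hθB b⟩
  obtain ⟨s, hs, hsN⟩ := RedNorm.exists_nonZeroDivisor_smul_mem A inferInstance
  let γ : C := ι (algebraMap A (DeltaFlat.Nrm A) s)
  have hγ : ∀ y : C, ∃ b : B, γ * y = algebraMap B C b := by
    intro y
    induction y using TensorProduct.induction_on with
    | zero => exact ⟨0, by simp⟩
    | tmul b m =>
      obtain ⟨a, ha⟩ := hsN m
      refine ⟨a • b, ?_⟩
      show ((1 : B) ⊗ₜ[A] algebraMap A (DeltaFlat.Nrm A) s) * (b ⊗ₜ[A] m) = (a • b) ⊗ₜ[A] (1 : DeltaFlat.Nrm A)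
      rw [Algebra.TensorProduct.tmul_mul_tmul, one_mul, TensorProduct.smul_tmul, ← Algebra.smul_def, ← ha,
        Algebra.linearMap_apply, Algebra.algebraMap_eq_smul_one]
    | add u v hu hv =>
      obtain ⟨b, hb⟩ := hu; obtain ⟨b', hb'⟩ := hv
      exact ⟨b + b', by rw [mul_add, hb, hb', map_add]⟩
  have hθinj : Function.Injective θ' := by
    rw [injective_iff_map_eq_zero]
    intro y hy
    obtain ⟨b, hb⟩ := hγ y
    have hb0 : b = 0 := IsFractionRing.injective B (FractionRing B) (by
      rw [map_zero, ← θ'.commutes, ← hb, map_mul, hy, mul_zero])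
    exact DeltaFlat.nrm_nzd hs
      (by rw [show ((1 : B) ⊗ₜ[A] algebraMap A (DeltaFlat.Nrm A) s) = γ from rfl, hb, hb0, map_zero])
  let e : C →ₐ[B] integralClosure B (FractionRing B) :=
    θ'.codRestrict _ fun y => IsIntegral.map θ' (Algebra.IsIntegral.isIntegral y)
  have he : Function.Injective e := fun a b h => hθinj (congrArg Subtype.val h)
  have hsub : (LinearMap.range (Algebra.linearMap B C)) = (LinearMap.range
      (Algebra.linearMap B (integralClosure B (FractionRing B)))).comap e.toLinearMap := by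
    ext c
    constructor
    · rintro ⟨b, rfl⟩
      exact ⟨b, (e.commutes b).symm⟩
    · rintro ⟨b, hb⟩
      exact ⟨b, he ((e.commutes b).trans hb)⟩
  unfold Curv2.deltaInv
  refine le_trans ?_ (Module.length_le_of_injective
    (Submodule.mapQ _ _ e.toLinearMap hsub.le) ?_)
  · rw [← hker, (p.quotKerEquivOfSurjective hp).length_eq, CycLib.length_tensor]
    refine le_mul_of_one_le_right zero_le (ENat.one_le_iff_ne_zero.mpr ?_)
    rw [Ne, Module.length_eq_zero_iff, Ideal.Quotient.subsingleton_iff]
    exact ne_top_of_le_ne_top Ideal.IsPrime.ne_top'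
      (IsLocalRing.map_maximalIdeal_le (algebraMap A B))
  · rw [← LinearMap.ker_eq_bot, Submodule.ker_mapQ, ← hsub, Submodule.mkQ_map_self]

/-- A field is Nagata. -/
theorem isNagata_field (F : Type u) [Field F] : CAlg.IsNagata F := by
  refine ⟨inferInstance, fun p hp => ?_⟩
  obtain rfl : p = ⊥ := (Ideal.eq_bot_or_top p).resolve_right hp.ne_top
  intro L _ _ _ _ _
  haveI : Module.Finite (F ⧸ (⊥ : Ideal F)) (FractionRing (F ⧸ (⊥ : Ideal F))) := by
    refine Module.Finite.of_surjective (Algebra.linearMap _ _) fun z => ?_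
    obtain ⟨a, b, hb, rfl⟩ := IsFractionRing.div_surjective (A := F ⧸ (⊥ : Ideal F)) z
    haveI : (⊥ : Ideal F).IsMaximal := Ideal.bot_isMaximal
    obtain ⟨c, hc⟩ := ((Ideal.Quotient.maximal_ideal_iff_isField_quotient _).mp ‹_›).mul_inv_cancel
      (nonZeroDivisors.ne_zero hb)
    refine ⟨a * c, ?_⟩
    have hb0 : algebraMap (F ⧸ (⊥ : Ideal F)) (FractionRing (F ⧸ (⊥ : Ideal F))) b ≠ 0 := fun h =>
      nonZeroDivisors.ne_zero hb (IsFractionRing.injective _ _ (by rw [h, map_zero]))
    rw [Algebra.linearMap_apply, eq_div_iff hb0, ← map_mul, mul_assoc, mul_comm c b, hc, mul_one]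
  haveI : Module.Finite (F ⧸ (⊥ : Ideal F)) L :=
    Module.Finite.trans (FractionRing (F ⧸ (⊥ : Ideal F))) L
  haveI : IsNoetherianRing (F ⧸ (⊥ : Ideal F)) := Ideal.Quotient.isNoetherianRing _
  exact Module.Finite.of_injective (integralClosure (F ⧸ (⊥ : Ideal F)) L).val.toLinearMap Subtype.val_injective

/-- Reduced local rings of schemes locally of finite type over a field have finite normalization. -/
theorem finite_normalization (k : Type u) [Field k] (X : Scheme.{u}) [X.Over (Spec (CommRingCat.of k))]
    [LocallyOfFiniteType (X ↘ (Spec (CommRingCat.of k)))] (x : X) [_root_.IsReduced (X.presheaf.stalk x)] :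
    Module.Finite (X.presheaf.stalk x) (integralClosure (X.presheaf.stalk x) (FractionRing (X.presheaf.stalk x))) := by
  obtain ⟨U, hU, hxU, -⟩ := exists_isAffineOpen_mem_and_subset (x := x) (U := ⊤) trivial
  letI := VarDim.secAlgebra k X U
  haveI := VarDim.finiteType_sections k hU
  letI := X.presheaf.algebra_section_stalk ⟨x, hxU⟩
  haveI := hU.isLocalization_stalk ⟨x, hxU⟩
  set p := (hU.primeIdealOf ⟨x, hxU⟩).asIdeal
  have hN : CAlg.IsNagata (Localization p.primeCompl) :=
    S4710.result _ (S0566.result k (isNagata_field k) Γ(X, U)) _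
  let e : Localization p.primeCompl ≃+* X.presheaf.stalk x :=
    (IsLocalization.algEquiv p.primeCompl (Localization p.primeCompl) (X.presheaf.stalk x)).toRingEquiv
  haveI : _root_.IsReduced (Localization p.primeCompl) := isReduced_of_injective e e.injective
  exact RedNorm.finite_integralClosure_congr e (RedNorm.finite_integralClosure_of_isNagata _ hN)

end Groth.Agent.BCPoint
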