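import Groth.Agent.VarDim.Scheme
import Groth.Agent.DeltaFlat.Basic
import Mathlib.AlgebraicGeometry.Morphisms.Flat
import Mathlib.Algebra.Category.Ring.Constructions

/-!
# Local rings of `X ⊗_k K` are localizations of `O_{X,x} ⊗_k K`
-/

set_option autoImplicit false
set_option linter.style.haveILetI false
set_option linter.unusedSectionVars false
set_option backward.isDefEq.respectTransparency.types false

universe u

open CategoryTheory AlgebraicGeometry Limits
open scoped TensorProduct

namespace Groth.Agent.BCPoint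

section Algebra

/-- If `T` is a local localization of `R` and `R → S → T` with `S` a localization of `R`, then `T`
is the localization of `S` at the contracted maximal ideal. -/
theorem isLocalization_of_tower {R S T : Type u} [CommRing R] [CommRing S] [CommRing T] [IsLocalRing T]
    [Algebra R S] [Algebra R T] [Algebra S T] [IsScalarTower R S T] (M N : Submonoid R)
    [IsLocalization M S] [IsLocalization N T] :
    IsLocalization.AtPrime T ((IsLocalRing.maximalIdeal T).comap (algebraMap S T)) := by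
  refine (isLocalization_iff _ _).mpr ⟨?_, ?_, ?_⟩
  · rintro ⟨s, hs⟩
    exact IsLocalRing.notMem_maximalIdeal.mp hs
  · intro z
    obtain ⟨⟨a, ⟨b, hb⟩⟩, h⟩ := IsLocalization.surj N z
    simp only at h
    refine ⟨⟨algebraMap R S a, algebraMap R S b, fun hmem => ?_⟩, ?_⟩
    · refine (IsLocalRing.notMem_maximalIdeal.mpr ?_) hmem
      rw [← IsScalarTower.algebraMap_apply]
      exact IsLocalization.map_units T (⟨b, hb⟩ : N)
    · show z * algebraMap S T (algebraMap R S b) = algebraMap S T (algebraMap R S a)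
      rw [← IsScalarTower.algebraMap_apply, ← IsScalarTower.algebraMap_apply, h]
  · intro u v h
    obtain ⟨⟨u', m, hm⟩, hu⟩ := IsLocalization.surj M u
    obtain ⟨⟨v', n, hn⟩, hv⟩ := IsLocalization.surj M v
    simp only at hu hv
    have h' : algebraMap R T (u' * n) = algebraMap R T (v' * m) := by
      simp only [map_mul, IsScalarTower.algebraMap_apply R S T, ← hu, ← hv, h]
      ring
    obtain ⟨⟨w, hw⟩, hwuv⟩ := (IsLocalization.eq_iff_exists N T).mp h'
    simp only at hwuv
    refine ⟨⟨algebraMap R S w, fun hmem => ?_⟩, ?_⟩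
    · refine (IsLocalRing.notMem_maximalIdeal.mpr ?_) hmem
      rw [← IsScalarTower.algebraMap_apply]
      exact IsLocalization.map_units T (⟨w, hw⟩ : N)
    · show algebraMap R S w * u = algebraMap R S w * v
      have hmn : IsUnit (algebraMap R S m * algebraMap R S n) :=
        (IsLocalization.map_units S (⟨m, hm⟩ : M)).mul (IsLocalization.map_units S (⟨n, hn⟩ : M))
      refine hmn.mul_right_cancel ?_
      have := congrArg (algebraMap R S) hwuv
      simp only [map_mul, ← hu, ← hv] at this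
      linear_combination this

end Algebra

variable (k : Type u) [Field k] (X : Scheme.{u}) [X.Over (Spec (CommRingCat.of k))]
  (K : Type u) [Field K] [Algebra k K]

attribute [local instance] VarDim.secAlgebra Curv2.stalkAlgebra

/-- The map from `K` to the sections of `X_K`. -/
noncomputable def constMap (V : (Curv2.bc k X K).Opens) : K →+* Γ(Curv2.bc k X K, V) :=
  ((Curv2.bc k X K).presheaf.map (homOfLE (le_top (a := V))).op).hom.comp
    (Coh.toGlobal (Curv2.bcSnd k X K))

/-- The map from `K` to the local rings of `X_K`. -/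
noncomputable def constStalk (y : Curv2.bc k X K) : K →+* (Curv2.bc k X K).presheaf.stalk y :=
  ((Curv2.bc k X K).presheaf.germ ⊤ y trivial).hom.comp (Coh.toGlobal (Curv2.bcSnd k X K))

lemma germ_constMap (V : (Curv2.bc k X K).Opens) (y : Curv2.bc k X K) (hy : y ∈ V) (c : K) :
    (Curv2.bc k X K).presheaf.germ V y hy (constMap k X K V c) = constStalk k X K y c := by
  show ((Curv2.bc k X K).presheaf.germ V y hy) (((Curv2.bc k X K).presheaf.map _).hom _) = _
  erw [TopCat.Presheaf.germ_res_apply]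
  rfl

lemma germ_algebraMap (U : X.Opens) (x : X) (hx : x ∈ U) (c : k) :
    X.presheaf.germ U x hx (algebraMap k Γ(X, U) c) = algebraMap k (X.presheaf.stalk x) c := by
  show (X.presheaf.germ U x hx) ((X.presheaf.map (homOfLE le_top).op).hom _) = _
  erw [TopCat.Presheaf.germ_res_apply]
  rfl

/-- Sections over an affine chart of `X_K`. -/
theorem exists_chart_equiv {U : X.Opens} (hU : IsAffineOpen U) :
    ∃ e : Γ(X, U) ⊗[k] K ≃+* Γ(Curv2.bc k X K, Curv2.bcFst k X K ⁻¹ᵁ U),
      (∀ a, e (a ⊗ₜ 1) = (Curv2.bcFst k X K).app U a) ∧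
      ∀ c, e (1 ⊗ₜ c) = constMap k X K _ c := by
  set p := Curv2.bcFst k X K
  set V := p ⁻¹ᵁ U
  let f := Spec.map (CommRingCat.ofHom (algebraMap k K))
  have H : IsPullback p (Curv2.bcSnd k X K) (X ↘ Spec (CommRingCat.of k)) f := IsPullback.of_hasPullback _ _
  have hV : V = p ⁻¹ᵁ U ⊓ (Curv2.bcSnd k X K) ⁻¹ᵁ ⊤ := by simp [V]
  have hT : (⊤ : (Spec (CommRingCat.of K)).Opens) ≤ f ⁻¹ᵁ ⊤ := by simp
  have hX : U ≤ (X ↘ Spec (CommRingCat.of k)) ⁻¹ᵁ ⊤ := by simp
  have sq := (isIso_pushoutSection_iff H hT hX hV).mp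
    (isIso_pushoutSection_of_isAffineOpen H hT hX hV (isAffineOpen_top _) (isAffineOpen_top _) hU)
  letI : Algebra Γ(X, U) Γ(Curv2.bc k X K, V) := (p.app U).hom.toAlgebra
  letI : Algebra K Γ(Curv2.bc k X K, V) := (constMap k X K V).toAlgebra
  letI : Algebra k Γ(Curv2.bc k X K, V) := ((constMap k X K V).comp (algebraMap k K)).toAlgebra
  haveI : IsScalarTower k K Γ(Curv2.bc k X K, V) := IsScalarTower.of_algebraMap_eq' rfl
  have hsq : IsPushout (CommRingCat.ofHom (algebraMap k Γ(X, U))) (CommRingCat.ofHom (algebraMap k K))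
      (CommRingCat.ofHom (algebraMap Γ(X, U) Γ(Curv2.bc k X K, V)))
      (CommRingCat.ofHom (algebraMap K Γ(Curv2.bc k X K, V))) := by
    refine sq.of_iso (Scheme.ΓSpecIso (CommRingCat.of k)) (Iso.refl _)
      (Scheme.ΓSpecIso (CommRingCat.of K)) (Iso.refl _) ?_ ?_ ?_ ?_
    · rw [Iso.refl_hom, Category.comp_id, ← Iso.inv_comp_eq]
      rfl
    · rw [show f.appLE ⊤ ⊤ hT = f.appTop from (Scheme.Hom.app_eq_appLE f).symm]
      exact Scheme.ΓSpecIso_naturality _
    · simp only [Iso.refl_hom, Category.comp_id]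
      exact (Scheme.Hom.app_eq_appLE p).symm
    · rw [Iso.refl_hom, Category.comp_id, ← Iso.inv_comp_eq]
      rfl
  haveI : IsScalarTower k Γ(X, U) Γ(Curv2.bc k X K, V) := IsScalarTower.of_algebraMap_eq fun c =>
    (congrArg (fun φ : CommRingCat.of k ⟶ Γ(Curv2.bc k X K, V) => φ.hom c) hsq.w).symm
  haveI : Algebra.IsPushout k Γ(X, U) K Γ(Curv2.bc k X K, V) := CommRingCat.isPushout_iff_isPushout.mp hsq
  let e := Algebra.IsPushout.equiv k Γ(X, U) K Γ(Curv2.bc k X K, V)
  refine ⟨e.toRingEquiv, fun a => ?_, fun c => ?_⟩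
  · show e (a ⊗ₜ 1) = _
    rw [Algebra.IsPushout.equiv_tmul, map_one, mul_one]
    rfl
  · show e (1 ⊗ₜ c) = _
    rw [Algebra.IsPushout.equiv_tmul, map_one, one_mul]
    rfl

/-- The local ring of `X_K` at `y` is the localization of `O_{X,x} ⊗_k K` at a prime. -/
theorem exists_stalk_equiv (y : Curv2.bc k X K) :
    ∃ ψ : X.presheaf.stalk (Curv2.bcFst k X K y) ⊗[k] K →+* (Curv2.bc k X K).presheaf.stalk y,
      (∀ a, ψ (a ⊗ₜ 1) = ((Curv2.bcFst k X K).stalkMap y).hom a) ∧
      (∀ c, ψ (1 ⊗ₜ c) = constStalk k X K y c) ∧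
      (letI := ψ.toAlgebra
       IsLocalization.AtPrime ((Curv2.bc k X K).presheaf.stalk y)
        ((IsLocalRing.maximalIdeal ((Curv2.bc k X K).presheaf.stalk y)).comap ψ)) := by
  set p := Curv2.bcFst k X K
  set x := p y
  obtain ⟨U, hU, hxU, -⟩ := exists_isAffineOpen_mem_and_subset (x := x) (U := ⊤) trivial
  obtain ⟨e, he₁, he₂⟩ := exists_chart_equiv k X K hU
  haveI : IsAffineHom (Curv2.bcFst k X K) := MorphismProperty.pullback_fst _ _ inferInstance
  have hV : IsAffineOpen (p ⁻¹ᵁ U) := hU.preimage p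
  letI := X.presheaf.algebra_section_stalk ⟨x, hxU⟩
  haveI hlocO := hU.isLocalization_stalk ⟨x, hxU⟩
  haveI : IsScalarTower k Γ(X, U) (X.presheaf.stalk x) :=
    IsScalarTower.of_algebraMap_eq fun c => (germ_algebraMap k X U x hxU c).symm
  let germV := ((Curv2.bc k X K).presheaf.germ (p ⁻¹ᵁ U) y hxU).hom
  have hgV : ∀ a : Γ(X, U), germV (e (a ⊗ₜ 1)) = (p.stalkMap y).hom (algebraMap _ (X.presheaf.stalk x) a) := by
    intro a
    rw [he₁]
    exact (Scheme.Hom.germ_stalkMap_apply p U y hxU a).symm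
  have hcomm : (p.stalkMap y).hom.comp (algebraMap k (X.presheaf.stalk x)) =
      (constStalk k X K y).comp (algebraMap k K) := by
    ext c
    have h : algebraMap k (X.presheaf.stalk x) c = algebraMap Γ(X, U) (X.presheaf.stalk x) (algebraMap k _ c) :=
      IsScalarTower.algebraMap_apply k Γ(X, U) (X.presheaf.stalk x) c
    rw [RingHom.comp_apply, RingHom.comp_apply, h, ← hgV, ← germ_constMap k X K (p ⁻¹ᵁ U) y hxU,
      ← he₂, Algebra.algebraMap_eq_smul_one, TensorProduct.smul_tmul, ← Algebra.algebraMap_eq_smul_one]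
  obtain ⟨Φ, hΦ₁, hΦ₂⟩ := DeltaFlat.exists_lift (A := k) (p.stalkMap y).hom (constStalk k X K y) hcomm
  refine ⟨Φ, hΦ₁, hΦ₂, ?_⟩
  -- the chart map
  let R := Γ(X, U) ⊗[k] K
  let S := X.presheaf.stalk x ⊗[k] K
  let φ : R →ₐ[k] S := Algebra.TensorProduct.map (IsScalarTower.toAlgHom k _ _) (AlgHom.id k K)
  letI : Algebra R S := φ.toRingHom.toAlgebra
  letI : Algebra S ((Curv2.bc k X K).presheaf.stalk y) := Φ.toAlgebra
  letI : Algebra R ((Curv2.bc k X K).presheaf.stalk y) := (germV.comp e.toRingHom).toAlgebra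
  haveI : IsScalarTower R S ((Curv2.bc k X K).presheaf.stalk y) := by
    refine IsScalarTower.of_algebraMap_eq fun r => ?_
    show germV (e r) = Φ (φ r)
    induction r using TensorProduct.induction_on with
    | zero => simp
    | tmul a c =>
      have h : a ⊗ₜ[k] c = (a ⊗ₜ[k] (1 : K)) * ((1 : Γ(X, U)) ⊗ₜ[k] c) := by
        rw [Algebra.TensorProduct.tmul_mul_tmul, mul_one, one_mul]
      rw [h, map_mul, map_mul, map_mul, map_mul, hgV, he₂]
      congr 1
      · simp only [φ, Algebra.TensorProduct.map_tmul, map_one]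
        exact (hΦ₁ _).symm
      · have h1 : φ ((1 : Γ(X, U)) ⊗ₜ[k] c) = (1 : X.presheaf.stalk x) ⊗ₜ[k] c := by
          show IsScalarTower.toAlgHom k Γ(X, U) (X.presheaf.stalk x) 1 ⊗ₜ[k] c = _
          rw [map_one]
        rw [h1, hΦ₂]
        exact germ_constMap k X K _ y hxU c
    | add r s hr hs => simp only [map_add, hr, hs]
  let M := Algebra.algebraMapSubmonoid R (hU.primeIdealOf ⟨x, hxU⟩).asIdeal.primeCompl
  haveI : IsScalarTower Γ(X, U) R S := IsScalarTower.of_algebraMap_eq fun a => by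
    show _ = φ (a ⊗ₜ[k] 1)
    simp only [φ, Algebra.TensorProduct.map_tmul, map_one]
    rfl
  haveI : IsLocalization M S :=
    IsLocalization.tensorProduct_tensorProduct k K _ (X.presheaf.stalk x) (by
      refine RingHom.ext fun a => ?_
      show IsScalarTower.toAlgHom k Γ(X, U) (X.presheaf.stalk x) 1 ⊗ₜ[k] a = _
      rw [map_one]
      rfl)
  letI algV := (Curv2.bc k X K).presheaf.algebra_section_stalk (U := p ⁻¹ᵁ U) ⟨y, hxU⟩
  haveI hlocV := hV.isLocalization_stalk ⟨y, hxU⟩
  haveI : IsLocalization ((hV.primeIdealOf ⟨y, hxU⟩).asIdeal.primeCompl.map e.symm.toRingHom)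
      ((Curv2.bc k X K).presheaf.stalk y) :=
    IsLocalization.isLocalization_of_base_ringEquiv _ _ e.symm
  exact isLocalization_of_tower M ((hV.primeIdealOf ⟨y, hxU⟩).asIdeal.primeCompl.map e.symm.toRingHom)

end Groth.Agent.BCPoint
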