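import Groth.Agent.DeltaFlat.Basic
import Mathlib.RingTheory.LocalProperties.Reduced

/-!
# Reducedness of the fibres of the normalization after extending the base field
-/

set_option autoImplicit false
set_option linter.style.haveILetI false
set_option linter.unusedSectionVars false
set_option maxHeartbeats 800000

universe u

open scoped TensorProduct

namespace Groth.Agent.BCPoint

/-- If `B` is a localization of `A ⊗_k K` and `(N/M') ⊗_k K` is reduced, then `M'(B ⊗_A N)` is
radical. -/
theorem mem_map_of_pow_mem_of_tensor {k K A B N : Type u} [CommRing k] [CommRing K] [CommRing A]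
    [CommRing B] [CommRing N] [Algebra k K] [Algebra k A] [Algebra A B] [Algebra A N] [Algebra k N]
    [IsScalarTower k A N] [Algebra (A ⊗[k] K) B] (P : Submonoid (A ⊗[k] K)) [IsLocalization P B]
    (hψ : ∀ a : A, algebraMap (A ⊗[k] K) B (a ⊗ₜ 1) = algebraMap A B a)
    (M' : Ideal N) (hred : IsReduced ((N ⧸ M') ⊗[k] K)) {y : B ⊗[A] N} {n : ℕ}
    (hy : y ^ n ∈ M'.map (Algebra.TensorProduct.includeRight : N →ₐ[A] B ⊗[A] N)) :
    y ∈ M'.map (Algebra.TensorProduct.includeRight : N →ₐ[A] B ⊗[A] N) := by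
  set J := M'.map (Algebra.TensorProduct.includeRight : N →ₐ[A] B ⊗[A] N)
  let D := (B ⊗[A] N) ⧸ J
  let L := N ⧸ M'
  let φ : A ⊗[k] K →ₐ[k] L ⊗[k] K :=
    Algebra.TensorProduct.map ((Ideal.Quotient.mkₐ k M').comp (IsScalarTower.toAlgHom k A N)) (AlgHom.id k K)
  let Q := P.map φ.toRingHom.toMonoidHom
  let T := Localization Q
  letI : CommRing T := inferInstanceAs (CommRing (Localization Q))
  haveI := hred
  haveI : IsReduced T := inferInstance
  -- the map to `T`
  let g₀ : A ⊗[k] K →+* T := (algebraMap (L ⊗[k] K) T).comp φ.toRingHom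
  have hg₀ : ∀ p : P, IsUnit (g₀ p) := fun p => IsLocalization.map_units T (⟨φ p, p, p.2, rfl⟩ : Q)
  let gB : B →+* T := IsLocalization.lift (M := P) hg₀
  let gN : N →+* T := (algebraMap (L ⊗[k] K) T).comp
    ((Algebra.TensorProduct.includeLeftRingHom).comp (Ideal.Quotient.mk M'))
  obtain ⟨Φ, hΦB, hΦN⟩ := DeltaFlat.exists_lift (A := A) gB gN (RingHom.ext fun a => by
    show gB (algebraMap A B a) = gN (algebraMap A N a)
    rw [← hψ, IsLocalization.lift_eq]
    show algebraMap (L ⊗[k] K) T (φ (a ⊗ₜ[k] 1)) = _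
    rfl)
  -- the map back
  let cK : K →+* D := ((Ideal.Quotient.mk J).comp (algebraMap B (B ⊗[A] N))).comp
    ((algebraMap (A ⊗[k] K) B).comp (Algebra.TensorProduct.includeRight : K →ₐ[k] A ⊗[k] K).toRingHom)
  let cL : L →+* D := Ideal.Quotient.lift M'
    ((Ideal.Quotient.mk J).comp (Algebra.TensorProduct.includeRight : N →ₐ[A] B ⊗[A] N).toRingHom)
    fun x hx => Ideal.Quotient.eq_zero_iff_mem.mpr (Ideal.mem_map_of_mem _ hx)
  have hcL : ∀ a : A, cL (Ideal.Quotient.mk M' (algebraMap A N a)) =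
      Ideal.Quotient.mk J (algebraMap B (B ⊗[A] N) (algebraMap A B a)) := by
    intro a
    show Ideal.Quotient.mk J ((Algebra.TensorProduct.includeRight : N →ₐ[A] B ⊗[A] N) (algebraMap A N a)) = _
    rw [AlgHom.commutes, ← IsScalarTower.algebraMap_apply]
  obtain ⟨h, hhL, hhK⟩ := DeltaFlat.exists_lift (A := k) cL cK (RingHom.ext fun c => by
    show cL (Ideal.Quotient.mk M' (algebraMap k N c)) = cK (algebraMap k K c)
    rw [IsScalarTower.algebraMap_apply k A N, hcL, ← hψ]
    show _ = Ideal.Quotient.mk J (algebraMap B (B ⊗[A] N) (algebraMap (A ⊗[k] K) B ((1 : A) ⊗ₜ[k] algebraMap k K c)))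
    rw [Algebra.algebraMap_eq_smul_one (A := A), Algebra.algebraMap_eq_smul_one (A := K), TensorProduct.smul_tmul])
  have hhφ : ∀ w : A ⊗[k] K, h (φ w) =
      Ideal.Quotient.mk J (algebraMap B (B ⊗[A] N) (algebraMap (A ⊗[k] K) B w)) := by
    intro w
    induction w using TensorProduct.induction_on with
    | zero => simp
    | tmul a c =>
      have e : a ⊗ₜ[k] c = (a ⊗ₜ[k] (1 : K)) * ((1 : A) ⊗ₜ[k] c) := by
        rw [Algebra.TensorProduct.tmul_mul_tmul, mul_one, one_mul]
      rw [e]
      simp only [map_mul]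
      congr 1
      · rw [hψ, ← hcL, ← hhL]
        rfl
      · show _ = cK c
        rw [← hhK]
        congr 1
        show (Ideal.Quotient.mk M' (algebraMap A N 1)) ⊗ₜ[k] c = _
        rw [map_one, map_one]
    | add u v hu hv => simp only [map_add, hu, hv]
  have hh : ∀ q : Q, IsUnit (h q) := by
    rintro ⟨_, p, hp, rfl⟩
    show IsUnit (h (φ p))
    rw [hhφ]
    exact ((IsLocalization.map_units B (⟨p, hp⟩ : P)).map _).map _
  let Ψ : T →+* D := IsLocalization.lift (M := Q) hh
  have hΨΦ : ∀ x, Ψ (Φ x) = Ideal.Quotient.mk J x := by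
    intro x
    induction x using TensorProduct.induction_on with
    | zero => simp
    | tmul b m =>
      have e : b ⊗ₜ[A] m = (b ⊗ₜ[A] (1 : N)) * ((1 : B) ⊗ₜ[A] m) := by
        rw [Algebra.TensorProduct.tmul_mul_tmul, mul_one, one_mul]
      rw [e, map_mul, map_mul, map_mul, hΦB, hΦN]
      congr 1
      · have key : Ψ.comp gB = (Ideal.Quotient.mk J).comp (algebraMap B (B ⊗[A] N)) := by
          refine IsLocalization.ringHom_ext P (RingHom.ext fun w => ?_)
          show Ψ (gB (algebraMap (A ⊗[k] K) B w)) = _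
          rw [IsLocalization.lift_eq]
          show Ψ (algebraMap (L ⊗[k] K) T (φ w)) = _
          rw [IsLocalization.lift_eq]
          exact hhφ w
        exact RingHom.congr_fun key b
      · show Ψ (algebraMap (L ⊗[k] K) T (Ideal.Quotient.mk M' m ⊗ₜ[k] 1)) = _
        rw [IsLocalization.lift_eq, hhL]
        rfl
    | add p q hp hq => rw [map_add, map_add, map_add, hp, hq]
  have hJker : J ≤ RingHom.ker Φ := by
    refine Ideal.map_le_iff_le_comap.mpr fun m hm => ?_
    rw [Ideal.mem_comap, RingHom.mem_ker]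
    show Φ ((1 : B) ⊗ₜ[A] m) = 0
    rw [hΦN]
    show algebraMap (L ⊗[k] K) T (Ideal.Quotient.mk M' m ⊗ₜ[k] 1) = 0
    rw [Ideal.Quotient.eq_zero_iff_mem.mpr hm, TensorProduct.zero_tmul, map_zero]
  have h0 : Φ y = 0 := IsReduced.eq_zero _ ⟨n, by rw [← map_pow]; exact hJker hy⟩
  exact Ideal.Quotient.eq_zero_iff_mem.mp (by rw [← hΨΦ, h0, map_zero])

end Groth.Agent.BCPoint
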