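import Groth.Agent.BCPoint.Basic
import Groth.Agent.Dim.LocalHom
import Mathlib.AlgebraicGeometry.Noetherian
import Mathlib.LinearAlgebra.TensorProduct.RightExactness

/-!
# Properties of `O_{X,x} → O_{X_K,y}`
-/

set_option autoImplicit false
set_option linter.style.haveILetI false
set_option linter.unusedSectionVars false
set_option backward.isDefEq.respectTransparency.types false

universe u

open CategoryTheory AlgebraicGeometry Limits
open scoped TensorProduct

namespace Groth.Agent.BCPoint

variable (k : Type u) [Field k] (X : Scheme.{u}) [X.Over (Spec (CommRingCat.of k))]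
  (K : Type u) [Field K] [Algebra k K] (y : Curv2.bc k X K)

attribute [local instance] Curv2.stalkAlgebra Curv2.resAlgebra

theorem flat_stalkMap : ((Curv2.bcFst k X K).stalkMap y).hom.Flat := by
  haveI : Flat (Spec.map (CommRingCat.ofHom (algebraMap k K))) := by
    rw [HasRingHomProperty.Spec_iff (P := @Flat)]
    show (algebraMap k K).Flat
    rw [RingHom.flat_algebraMap_iff]
    infer_instance
  exact Flat.stalkMap _ y

theorem isNoetherianRing_stalk [LocallyOfFiniteType (X ↘ Spec (CommRingCat.of k))] :
    IsNoetherianRing (X.presheaf.stalk (Curv2.bcFst k X K y)) ∧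
      IsNoetherianRing ((Curv2.bc k X K).presheaf.stalk y) := by
  haveI : IsLocallyNoetherian X := LocallyOfFiniteType.isLocallyNoetherian (X ↘ Spec (CommRingCat.of k))
  haveI : LocallyOfFiniteType (Curv2.bcSnd k X K) := MorphismProperty.pullback_snd _ _ inferInstance
  haveI : IsLocallyNoetherian (Curv2.bc k X K) := LocallyOfFiniteType.isLocallyNoetherian (Curv2.bcSnd k X K)
  exact ⟨inferInstance, inferInstance⟩

/-- If `κ(x) ⊗_k K` is reduced, so is the fibre `O_y / m_x O_y`. -/
theorem isRadical_map_maximalIdeal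
    (hred : _root_.IsReduced (X.residueField (Curv2.bcFst k X K y) ⊗[k] K)) :
    ((IsLocalRing.maximalIdeal (X.presheaf.stalk (Curv2.bcFst k X K y))).map
      ((Curv2.bcFst k X K).stalkMap y).hom).IsRadical := by
  obtain ⟨ψ, hψ₁, -, hloc⟩ := exists_stalk_equiv k X K y
  set O := X.presheaf.stalk (Curv2.bcFst k X K y)
  letI := ψ.toAlgebra
  haveI := hloc
  let ρ : O →ₐ[k] X.residueField (Curv2.bcFst k X K y) :=
    ⟨(X.residue (Curv2.bcFst k X K y)).hom, fun _ => rfl⟩
  have hρ : Function.Surjective ρ := X.residue_surjective _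
  let π := Algebra.TensorProduct.map ρ (AlgHom.id k K)
  let inc : O →ₐ[k] O ⊗[k] K := Algebra.TensorProduct.includeLeft
  have hker : RingHom.ker π = (IsLocalRing.maximalIdeal O).map inc := by
    rw [Algebra.TensorProduct.rTensor_ker _ hρ]
    congr 1
    exact Ideal.mk_ker
  have hrad : ((IsLocalRing.maximalIdeal O).map inc).IsRadical := by
    intro z hz
    obtain ⟨n, hn⟩ := hz
    rw [← hker, RingHom.mem_ker] at hn ⊢
    rw [map_pow] at hn
    exact IsReduced.eq_zero _ ⟨n, hn⟩
  have e : (IsLocalRing.maximalIdeal O).map ((Curv2.bcFst k X K).stalkMap y).hom =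
      ((IsLocalRing.maximalIdeal O).map inc).map (algebraMap (O ⊗[k] K) ((Curv2.bc k X K).presheaf.stalk y)) := by
    rw [show (IsLocalRing.maximalIdeal O).map inc = (IsLocalRing.maximalIdeal O).map inc.toRingHom from rfl, Ideal.map_map]
    congr 1
    exact RingHom.ext fun a => (hψ₁ a).symm
  rw [e]
  intro z hz
  rw [← IsLocalization.map_radical
    ((IsLocalRing.maximalIdeal ((Curv2.bc k X K).presheaf.stalk y)).comap ψ).primeCompl, hrad.radical] at hz
  exact hz

/-- `m_x O_y = m_y` when the dimensions agree and `κ(x) ⊗_k K` is reduced. -/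
theorem map_maximalIdeal_eq [LocallyOfFiniteType (X ↘ Spec (CommRingCat.of k))]
    (hdim : ringKrullDim ↥(X.presheaf.stalk (Curv2.bcFst k X K y)) =
      ringKrullDim ↥((Curv2.bc k X K).presheaf.stalk y))
    (hred : _root_.IsReduced (X.residueField (Curv2.bcFst k X K y) ⊗[k] K)) :
    (IsLocalRing.maximalIdeal (X.presheaf.stalk (Curv2.bcFst k X K y))).map
        ((Curv2.bcFst k X K).stalkMap y).hom =
      IsLocalRing.maximalIdeal ((Curv2.bc k X K).presheaf.stalk y) := by
  obtain ⟨_, _⟩ := isNoetherianRing_stalk k X K y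
  set A := X.presheaf.stalk (Curv2.bcFst k X K y)
  set B := (Curv2.bc k X K).presheaf.stalk y
  letI : Algebra A B := ((Curv2.bcFst k X K).stalkMap y).hom.toAlgebra
  haveI : Module.Flat A B := flat_stalkMap k X K y
  haveI : IsLocalHom (algebraMap A B) := inferInstanceAs (IsLocalHom ((Curv2.bcFst k X K).stalkMap y).hom)
  set I := (IsLocalRing.maximalIdeal A).map (algebraMap A B)
  have h := Dim.ringKrullDim_eq_add_fibre A B
  rw [← hdim] at h
  have hfin : ringKrullDim A ≠ ⊤ ∧ ringKrullDim A ≠ ⊥ :=
    ⟨(finiteRingKrullDim_iff_ne_bot_and_top.mp inferInstance).2,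
      (finiteRingKrullDim_iff_ne_bot_and_top.mp inferInstance).1⟩
  have h0 : ringKrullDim (B ⧸ I) ≤ 0 := by
    revert h
    generalize ringKrullDim (B ⧸ I) = b
    obtain ⟨a, ha⟩ := WithBot.ne_bot_iff_exists.mp hfin.2
    rw [← ha]
    intro h
    cases b with
    | bot => exact bot_le
    | coe b =>
      have h' : a = a + b := WithBot.coe_injective h
      cases a with
      | top => exact absurd (by rw [← ha]; rfl) hfin.1
      | coe a =>
        cases b with
        | top => exact absurd h' (by simp)
        | coe b =>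
          have h'' : a = a + b := by exact_mod_cast h'
          exact_mod_cast (by omega : b ≤ 0)
  have hrad : I.IsRadical := isRadical_map_maximalIdeal k X K y hred
  haveI : Ring.KrullDimLE 0 (B ⧸ I) := Ring.krullDimLE_iff.mpr (by simpa using h0)
  refine le_antisymm (IsLocalRing.map_maximalIdeal_le (algebraMap A B)) ?_
  intro z hz
  refine hrad ?_
  rw [Ideal.radical_eq_sInf, Ideal.mem_sInf]
  rintro q ⟨hIq, hq⟩
  haveI : (q.map (Ideal.Quotient.mk I)).IsPrime :=
    Ideal.map_isPrime_of_surjective Ideal.Quotient.mk_surjective (by rw [Ideal.mk_ker]; exact hIq)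
  haveI : (q.map (Ideal.Quotient.mk I)).IsMaximal := Ideal.IsPrime.isMaximal' inferInstance
  have hqe : (q.map (Ideal.Quotient.mk I)).comap (Ideal.Quotient.mk I) = q := by
    rw [Ideal.comap_map_of_surjective' _ Ideal.Quotient.mk_surjective, Ideal.mk_ker, sup_eq_left.mpr hIq]
  have hmax : q.IsMaximal := hqe ▸ Ideal.comap_isMaximal_of_surjective _ Ideal.Quotient.mk_surjective
  rw [IsLocalRing.eq_maximalIdeal hmax]
  exact hz

end Groth.Agent.BCPoint
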